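import Mathlib
import Cfsg.Prelude.Def_SporadicCombinatorics

/-!
Bitmask model of the length-24 code (kernel friendly), used for the trio statements
S1557 and S1558.
-/

set_option autoImplicit false

namespace Cfsg.Agent.GolayTrio.Core

open Cfsg

/-- index of a point: residues are their own index, the extra point has index 23 -/
def idx : GolayPt → ℕ
  | none => 23
  | some x => x.val

/-- the point with a given index -/
def pt (i : ℕ) : GolayPt := if i = 23 then none else some (i : ZMod 23)

theorem idx_lt (p : GolayPt) : idx p < 24 := by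
  revert p; decide +kernel

theorem pt_idx (p : GolayPt) : pt (idx p) = p := by
  revert p; decide +kernel

theorem idx_pt : ∀ i : ℕ, i < 24 → idx (pt i) = i := by
  decide +kernel

theorem idx_injective : Function.Injective idx := fun p q h => by
  rw [← pt_idx p, ← pt_idx q, h]

/-- the word with a given mask -/
def word (m : ℕ) : GolayPt → ZMod 2 := fun p => if m.testBit (idx p) then 1 else 0

/-- the set of points with a given mask -/
def bits (m : ℕ) : Finset GolayPt := Finset.univ.filter fun p => m.testBit (idx p) = true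

theorem mem_bits (m : ℕ) (p : GolayPt) : p ∈ bits m ↔ m.testBit (idx p) = true := by
  simp only [bits, Finset.mem_filter, Finset.mem_univ, true_and]

/-- the mask of a set of points -/
def mask (s : Finset GolayPt) : ℕ := Nat.ofBits fun i : Fin 24 => decide (pt i.val ∈ s)

theorem mask_lt (s : Finset GolayPt) : mask s < 2 ^ 24 := Nat.ofBits_lt_two_pow _

theorem testBit_mask (s : Finset GolayPt) (i : ℕ) (h : i < 24) :
    (mask s).testBit i = decide (pt i ∈ s) := by
  rw [mask, Nat.testBit_ofBits_lt _ _ h]

theorem bits_mask (s : Finset GolayPt) : bits (mask s) = s := by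
  ext p
  rw [mem_bits, testBit_mask _ _ (idx_lt p), pt_idx, decide_eq_true_iff]

theorem mask_bits (m : ℕ) (hm : m < 2 ^ 24) : mask (bits m) = m := by
  apply Nat.eq_of_testBit_eq
  intro i
  rcases lt_or_ge i 24 with h | h
  · rw [testBit_mask _ _ h]
    have : (pt i ∈ bits m) ↔ m.testBit i = true := by rw [mem_bits, idx_pt i h]
    simp only [this, Bool.decide_eq_true]
  · rw [Nat.testBit_lt_two_pow (lt_of_lt_of_le (mask_lt _) (Nat.pow_le_pow_right (by norm_num) h)),
      Nat.testBit_lt_two_pow (lt_of_lt_of_le hm (Nat.pow_le_pow_right (by norm_num) h))]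

theorem bits_injOn {m n : ℕ} (hm : m < 2 ^ 24) (hn : n < 2 ^ 24) (h : bits m = bits n) : m = n := by
  rw [← mask_bits m hm, ← mask_bits n hn, h]

theorem support_word (m : ℕ) : support₂ (word m) = bits m := by
  ext p
  rw [mem_bits]
  rw [support₂, Finset.mem_filter]
  simp only [Finset.mem_univ, true_and, word]
  generalize m.testBit (idx p) = b
  revert b
  decide

theorem word_xor (m n : ℕ) : word (m ^^^ n) = word m + word n := by
  funext p
  simp only [word, Pi.add_apply, Nat.testBit_xor]
  cases m.testBit (idx p) <;> cases n.testBit (idx p) <;> decide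

theorem word_zero : word 0 = 0 := by
  funext p
  simp only [word, Nat.zero_testBit]
  rfl

/-- every word is the word of the mask of its support -/
theorem word_mask_support (w : GolayPt → ZMod 2) : word (mask (support₂ w)) = w := by
  funext p
  simp only [word, testBit_mask _ _ (idx_lt p), pt_idx, support₂, Finset.mem_filter,
    Finset.mem_univ, true_and, ne_eq, decide_not, Bool.not_eq_true', decide_eq_false_iff_not]
  generalize w p = a
  revert a
  decide

theorem support_injective : Function.Injective (support₂ : (GolayPt → ZMod 2) → Finset GolayPt) :=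
  fun w w' h => by rw [← word_mask_support w, ← word_mask_support w', h]

theorem exists_word (w : GolayPt → ZMod 2) : ∃ m < 2 ^ 24, w = word m :=
  ⟨mask (support₂ w), mask_lt _, (word_mask_support w).symm⟩

/-- xor of the members of `L` selected by the bits of `c` -/
def enc : List ℕ → ℕ → ℕ
  | [], _ => 0
  | b :: bs, c => (b * (c % 2)) ^^^ enc bs (c / 2)

theorem enc_xor (L : List ℕ) : ∀ c d : ℕ, enc L (c ^^^ d) = enc L c ^^^ enc L d := by
  induction L with
  | nil => intro c d; simp only [enc, Nat.xor_zero]
  | cons b bs ih =>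
    intro c d
    simp only [enc]
    have h1 : (c ^^^ d) / 2 = c / 2 ^^^ d / 2 := by
      apply Nat.eq_of_testBit_eq; intro i
      simp only [Nat.testBit_xor, Nat.testBit_div_two]
    have h2 : b * ((c ^^^ d) % 2) = b * (c % 2) ^^^ b * (d % 2) := by
      have h3 : (c ^^^ d) % 2 = (c % 2) ^^^ (d % 2) := by
        have := Nat.xor_mod_two_pow (a := c) (b := d) (n := 1)
        simpa using this
      rw [h3]
      rcases Nat.mod_two_eq_zero_or_one c with hc | hc <;>
        rcases Nat.mod_two_eq_zero_or_one d with hd | hd <;> simp [hc, hd]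
    rw [h1, h2, ih]
    ac_rfl

theorem word_enc_mem (C : Submodule (ZMod 2) (GolayPt → ZMod 2)) (L : List ℕ) :
    (∀ b ∈ L, word b ∈ C) → ∀ c, word (enc L c) ∈ C := by
  induction L with
  | nil => intro _ c; simp only [enc, word_zero]; exact C.zero_mem
  | cons b bs ih =>
    intro h c
    simp only [enc]
    rw [word_xor]
    refine C.add_mem ?_ (ih (fun x hx => h x (List.mem_cons_of_mem _ hx)) _)
    rcases Nat.mod_two_eq_zero_or_one c with hc | hc
    · rw [hc, Nat.mul_zero, word_zero]; exact C.zero_mem
    · rw [hc, Nat.mul_one]; exact h b List.mem_cons_self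

/-- mask of the translate by `k` of the set of squares modulo 23 -/
def qm (k : ℕ) : ℕ := ((340831 <<< k) ||| (340831 >>> (23 - k))) % 8388608

/-- masks of the 24 generators of the code -/
def qgens : List ℕ := [340831, 681662, 1363324, 2726648, 5453296, 2517985, 5035970, 1683333, 3366666,
  6733332, 5078057, 1767507, 3535014, 7070028, 5751449, 3114291, 6228582, 4068557, 8137114, 7885621,
  7382635, 6376663, 4364719, 16777215]

/-- basis of the code (systematic on the bits 0, ..., 11) -/
def B : List ℕ := [13062145, 4845570, 13938692, 7221256, 10170384, 11952160, 15515712, 2019456,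
  4038912, 8077824, 11654144, 14919680]

def K : List ℕ := [8390313, 280, 8389785, 1400, 8390330, 8390551, 8390093, 2000, 1347, 101, 8390243,
  8390181]

/-- code membership of a mask -/
def isCode (m : ℕ) : Bool := enc B (m % 4096) == m

theorem qrWord_eq : ∀ t : ZMod 23, ∀ p : GolayPt, qrWord t p = word (qgens.getD t.val 0) p := by
  decide +kernel

theorem one_eq : (1 : GolayPt → ZMod 2) = word 16777215 := by
  have : ∀ p : GolayPt, (1 : GolayPt → ZMod 2) p = word 16777215 p := by decide +kernel
  exact funext this

theorem word_qgens_mem : ∀ b ∈ qgens, word b ∈ golayCode := by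
  have h : ∀ b ∈ qgens, b = 16777215 ∨ ∃ t : ZMod 23, qgens.getD t.val 0 = b := by decide +kernel
  intro b hb
  rcases h b hb with h | ⟨t, ht⟩
  · rw [h, ← one_eq]
    exact Submodule.subset_span (Or.inr rfl)
  · rw [← ht, ← funext (qrWord_eq t)]
    exact Submodule.subset_span (Or.inl ⟨t, rfl⟩)

theorem B_eq : B = K.map (enc qgens) := by decide +kernel

theorem word_B_mem : ∀ b ∈ B, word b ∈ golayCode := by
  rw [B_eq]
  intro b hb
  obtain ⟨k, _, rfl⟩ := List.mem_map.1 hb
  exact word_enc_mem _ _ word_qgens_mem k

theorem word_enc_B_mem (c : ℕ) : word (enc B c) ∈ golayCode := word_enc_mem _ _ word_B_mem c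

theorem forall_lt_4096 {P : ℕ → Prop} (h : ∀ a < 64, ∀ b < 64, P (64 * a + b)) :
    ∀ c < 4096, P c := by
  intro c hc
  have := h (c / 64) (by omega) (c % 64) (by omega)
  rwa [Nat.div_add_mod] at this

theorem enc_mod : ∀ c < 4096, enc B c % 4096 = c := forall_lt_4096 (by decide +kernel)

theorem enc_lt : ∀ c < 4096, enc B c < 2 ^ 24 := forall_lt_4096 (by decide +kernel)

theorem qgens_enc : ∀ b ∈ qgens, enc B (b % 4096) = b := by decide +kernel

theorem exists_enc {w : GolayPt → ZMod 2} (hw : w ∈ golayCode) : ∃ c < 4096, w = word (enc B c) := by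
  refine Submodule.span_induction (p := fun w _ => ∃ c < 4096, w = word (enc B c)) ?_ ?_ ?_ ?_ hw
  · rintro x (⟨t, rfl⟩ | hx)
    · have h1 : qgens.getD t.val 0 ∈ qgens := by
        revert t; decide +kernel
      refine ⟨qgens.getD t.val 0 % 4096, Nat.mod_lt _ (by norm_num), ?_⟩
      rw [qgens_enc _ h1]
      exact funext (qrWord_eq t)
    · rw [Set.mem_singleton_iff] at hx
      refine ⟨16777215 % 4096, Nat.mod_lt _ (by norm_num), ?_⟩
      rw [qgens_enc _ (by decide), hx, one_eq]
  · exact ⟨0, by norm_num, by rw [show enc B 0 = 0 by decide, word_zero]⟩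
  · rintro x y _ _ ⟨c, hc, rfl⟩ ⟨d, hd, rfl⟩
    exact ⟨c ^^^ d, Nat.xor_lt_two_pow (n := 12) hc hd, by rw [enc_xor, word_xor]⟩
  · rintro a x _ ⟨c, hc, rfl⟩
    have ha : a = 0 ∨ a = 1 := by revert a; decide
    rcases ha with rfl | rfl
    · exact ⟨0, by norm_num, by rw [show enc B 0 = 0 by decide, word_zero, zero_smul]⟩
    · exact ⟨c, hc, by rw [one_smul]⟩

theorem word_injOn {m n : ℕ} (hm : m < 2 ^ 24) (hn : n < 2 ^ 24) (h : word m = word n) : m = n :=
  bits_injOn hm hn (by rw [← support_word, ← support_word, h])

theorem word_mem_iff (m : ℕ) (hm : m < 2 ^ 24) : word m ∈ golayCode ↔ isCode m = true := by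
  constructor
  · intro h
    obtain ⟨c, hc, h⟩ := exists_enc h
    have := word_injOn hm (enc_lt c hc) h
    rw [this, isCode, enc_mod c hc, beq_iff_eq]
  · intro h
    rw [isCode, beq_iff_eq] at h
    rw [← h]
    exact word_enc_B_mem _

theorem bits_mem_supports_iff (m : ℕ) (hm : m < 2 ^ 24) :
    bits m ∈ supports (golayCode : Set (GolayPt → ZMod 2)) ↔ isCode m = true := by
  rw [← word_mem_iff m hm, ← support_word]
  constructor
  · rintro ⟨w, hw, h⟩
    rwa [← support_injective h]
  · intro h
    exact ⟨_, h, rfl⟩

end Cfsg.Agent.GolayTrio.Core
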