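import Cfsg.Agent.GolayTrio.Std

/-!
The stabiliser of the standard trio: the homomorphism onto `GL(3,2) × S₃` and its kernel of
order 64.
-/

set_option autoImplicit false

namespace Cfsg.Agent.GolayTrio.Stab

open Cfsg Cfsg.Agent.SporadicA.GolayBase Cfsg.Agent.SporadicA.GolayPerm
open Cfsg.Agent.GolayTrio.Std
open scoped Pointwise Matrix

/-- affine map of the points -/
def mk (f : Fin 3 → Fin 3) (A : Matrix (Fin 3) (Fin 3) (ZMod 2)) (b : Fin 3 → V) (p : GolayPt) :
    GolayPt :=
  point (f (kk p)) (A *ᵥ vv p + b (kk p))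

theorem isAff_mk (f : Fin 3 → Fin 3) (A : Matrix (Fin 3) (Fin 3) (ZMod 2)) (b : Fin 3 → V) :
    IsAff (mk f A b) f A b := fun _ => ⟨kk_point _ _, vv_point _ _⟩

theorem mk_injective {f : Fin 3 → Fin 3} {A A' : Matrix (Fin 3) (Fin 3) (ZMod 2)} {b : Fin 3 → V}
    (hf : Function.Injective f) (hA : A' * A = 1) : Function.Injective (mk f A b) := by
  intro p q h
  have h1 : f (kk p) = f (kk q) := by
    have := congrArg kk h
    rwa [mk, mk, kk_point, kk_point] at this
  have h2 := hf h1
  have h3 : A *ᵥ vv p + b (kk p) = A *ᵥ vv q + b (kk q) := by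
    have := congrArg vv h
    rwa [mk, mk, vv_point, vv_point] at this
  rw [h2, add_left_inj] at h3
  have h4 := congrArg (fun v => A' *ᵥ v) h3
  simp only [Matrix.mulVec_mulVec, hA, Matrix.one_mulVec] at h4
  exact ext_kv h2 h4

/-- the affine permutation of the points -/
noncomputable def mkPerm (f : Fin 3 → Fin 3) (A A' : Matrix (Fin 3) (Fin 3) (ZMod 2))
    (b : Fin 3 → V) (hf : Function.Injective f) (hA : A' * A = 1) : Equiv.Perm GolayPt :=
  Equiv.ofBijective (mk f A b) (Finite.injective_iff_bijective.1 (mk_injective hf hA))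

theorem mem_M24_of_check (g : Equiv.Perm GolayPt)
    (h : ∀ k < 12, isCode (maskW (fun p => word (basisMask k) (g p))) = true) : g ∈ M24 := by
  rw [← M24.inv_mem_iff]
  apply mem_M24_of_basis
  intro k hk
  rw [← support₂_word, smul_support₂, maskOf_support₂]
  exact h k hk

theorem smul_T0_of_isAff {g : Equiv.Perm GolayPt} {f : Fin 3 → Fin 3}
    {A : Matrix (Fin 3) (Fin 3) (ZMod 2)} {b : Fin 3 → V} (hf : Function.Injective f)
    (h : IsAff g f A b) : g • T0 = T0 := by
  have h1 : ∀ j, g • OO j = OO (f j) := by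
    intro j
    ext p
    rw [mem_OO, ← Finset.inv_smul_mem_iff, mem_OO]
    have h2 := (h (g⁻¹ p)).1
    have h3 : g (g⁻¹ p) = p := Equiv.apply_symm_apply g p
    rw [h3] at h2
    rw [h2, hf.eq_iff]
    rfl
  apply Finset.eq_of_subset_of_card_le
  · intro o ho
    obtain ⟨o', ho', rfl⟩ := Finset.mem_smul_finset.1 ho
    obtain ⟨j, rfl⟩ := (mem_T0 o').1 ho'
    exact (mem_T0 _).2 ⟨f j, h1 j⟩
  · rw [Finset.card_smul_finset]

/-- an explicit affine element of the stabiliser -/
theorem exists_elt (f : Fin 3 → Fin 3) (A A' : Matrix (Fin 3) (Fin 3) (ZMod 2)) (b : Fin 3 → V)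
    (hf : Function.Injective f) (hA : A' * A = 1)
    (h : ∀ k < 12, isCode (maskW (fun p => word (basisMask k) (mk f A b p))) = true) :
    ∃ x : MulAction.stabilizer M24 T0, IsAff ((x : M24) : Equiv.Perm GolayPt) f A b := by
  have h1 : IsAff (mkPerm f A A' b hf hA) f A b := isAff_mk f A b
  exact ⟨⟨⟨mkPerm f A A' b hf hA, mem_M24_of_check _ h⟩, smul_T0_of_isAff hf h1⟩, h1⟩

theorem isAff_stab (x : MulAction.stabilizer M24 T0) :
    IsAff ((x : M24) : Equiv.Perm GolayPt) (ind ((x : M24) : Equiv.Perm GolayPt))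
      (mat ((x : M24) : Equiv.Perm GolayPt)) (tra ((x : M24) : Equiv.Perm GolayPt)) :=
  isAff_of_mem (x : M24).2 x.2

/-- the linear part -/
def homA : MulAction.stabilizer M24 T0 →* Matrix (Fin 3) (Fin 3) (ZMod 2) where
  toFun x := mat ((x : M24) : Equiv.Perm GolayPt)
  map_one' := isAff_id.mat_eq
  map_mul' x y := (isAff_comp (isAff_stab x) (isAff_stab y)).mat_eq

/-- the action on the octads -/
def homF : MulAction.stabilizer M24 T0 →* Function.End (Fin 3) where
  toFun x := ind ((x : M24) : Equiv.Perm GolayPt)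
  map_one' := isAff_id.ind_eq
  map_mul' x y := (isAff_comp (isAff_stab x) (isAff_stab y)).ind_eq

/-- the homomorphism onto `GL(3,2) × S₃` -/
noncomputable def phi :
    MulAction.stabilizer M24 T0 →* GL (Fin 3) (ZMod 2) × Equiv.Perm (Fin 3) :=
  homA.toHomUnits.prod (Equiv.Perm.equivUnitsEnd.symm.toMonoidHom.comp homF.toHomUnits)

theorem phi_fst (x : MulAction.stabilizer M24 T0) :
    ((phi x).1 : Matrix (Fin 3) (Fin 3) (ZMod 2)) = mat ((x : M24) : Equiv.Perm GolayPt) := rfl

theorem phi_snd (x : MulAction.stabilizer M24 T0) (j : Fin 3) :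
    (phi x).2 j = ind ((x : M24) : Equiv.Perm GolayPt) j := rfl

theorem phi_eq_of_isAff {x : MulAction.stabilizer M24 T0} {f : Equiv.Perm (Fin 3)}
    {A : GL (Fin 3) (ZMod 2)} {b : Fin 3 → V}
    (h : IsAff ((x : M24) : Equiv.Perm GolayPt) f (A : Matrix (Fin 3) (Fin 3) (ZMod 2)) b) :
    phi x = (A, f) := by
  refine Prod.ext ?_ ?_
  · apply Units.ext
    rw [phi_fst, h.mat_eq]
  · ext j
    rw [phi_snd, h.ind_eq]

/-! ### surjectivity -/

/-- the translation part going with the transvection `(i, j)` -/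
def bT : Fin 3 → Fin 3 → V
  | 0, 1 => ![1, 0, 1]
  | 0, 2 => ![1, 1, 0]
  | 1, 0 => ![0, 1, 1]
  | 1, 2 => ![1, 0, 0]
  | 2, 0 => ![0, 1, 0]
  | 2, 1 => ![1, 0, 0]
  | _, _ => 0

theorem check_transvection : ∀ i j : Fin 3, i ≠ j → ∀ k < 12, isCode (maskW (fun p =>
    word (basisMask k) (mk id (Matrix.transvection i j 1) (fun _ => bT i j) p))) = true := by
  decide +kernel

theorem check_swap : ∀ i j : Fin 3, i ≠ j → ∀ k < 12, isCode (maskW (fun p =>
    word (basisMask k) (mk (Equiv.swap i j) 1 0 p))) = true := by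
  decide +kernel

theorem transvection_mem_range (i j : Fin 3) (hij : i ≠ j) (c : ZMod 2) (A : GL (Fin 3) (ZMod 2))
    (hA : (A : Matrix (Fin 3) (Fin 3) (ZMod 2)) = Matrix.transvection i j c) :
    (A, (1 : Equiv.Perm (Fin 3))) ∈ phi.range := by
  have hc : c = 0 ∨ c = 1 := by clear hA; revert c; decide
  rcases hc with rfl | rfl
  · rw [Matrix.transvection_zero] at hA
    have : A = 1 := Units.ext hA
    rw [this]
    exact phi.range.one_mem
  · obtain ⟨x, hx⟩ := exists_elt id (Matrix.transvection i j 1) (Matrix.transvection i j 1)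
      (fun _ => bT i j) Function.injective_id (by
        rw [Matrix.transvection_mul_transvection_same _ _ hij]
        rw [show (1 : ZMod 2) + 1 = 0 by decide, Matrix.transvection_zero])
      (check_transvection i j hij)
    refine ⟨x, phi_eq_of_isAff (b := fun _ => bT i j) ?_⟩
    rw [hA]
    exact hx

theorem gl_mem_range (A : GL (Fin 3) (ZMod 2)) :
    (A, (1 : Equiv.Perm (Fin 3))) ∈ phi.range := by
  have key : ∀ M : Matrix (Fin 3) (Fin 3) (ZMod 2), M.det ≠ 0 → ∀ A : GL (Fin 3) (ZMod 2),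
      (A : Matrix (Fin 3) (Fin 3) (ZMod 2)) = M → (A, (1 : Equiv.Perm (Fin 3))) ∈ phi.range := by
    intro M hM
    refine Matrix.diagonal_transvection_induction_of_det_ne_zero
      (fun M => ∀ A : GL (Fin 3) (ZMod 2),
      (A : Matrix (Fin 3) (Fin 3) (ZMod 2)) = M → (A, (1 : Equiv.Perm (Fin 3))) ∈ phi.range) M hM
      ?_ ?_ ?_
    · intro D hD A hA
      have hD1 : D = 1 := by
        rw [Matrix.det_diagonal] at hD
        funext i
        have h1 : D i ≠ 0 := fun h => hD (Finset.prod_eq_zero (Finset.mem_univ i) h)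
        exact (ne_zero_iff_eq_one _).1 h1
      rw [hD1, show (1 : Fin 3 → ZMod 2) = fun _ => 1 from rfl, Matrix.diagonal_one] at hA
      have : A = 1 := Units.ext hA
      rw [this]
      exact phi.range.one_mem
    · intro t A hA
      exact transvection_mem_range t.i t.j t.hij t.c A hA
    · intro M N hM hN ihM ihN A hA
      have h1 := ihM (Matrix.GeneralLinearGroup.mkOfDetNeZero M hM) rfl
      have h2 := ihN (Matrix.GeneralLinearGroup.mkOfDetNeZero N hN) rfl
      have h3 : A = Matrix.GeneralLinearGroup.mkOfDetNeZero M hM *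
          Matrix.GeneralLinearGroup.mkOfDetNeZero N hN := Units.ext hA
      have h4 := phi.range.mul_mem h1 h2
      rw [Prod.mk_mul_mk, mul_one, ← h3] at h4
      exact h4
  refine key A ?_ A rfl
  exact (A.isUnit.map Matrix.detMonoidHom).ne_zero

theorem perm_mem_range (σ : Equiv.Perm (Fin 3)) :
    ((1 : GL (Fin 3) (ZMod 2)), σ) ∈ phi.range := by
  refine Equiv.Perm.swap_induction_on σ phi.range.one_mem ?_
  intro f i j hij ih
  have h1 : ((1 : GL (Fin 3) (ZMod 2)), Equiv.swap i j) ∈ phi.range := by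
    obtain ⟨x, hx⟩ := exists_elt (Equiv.swap i j) 1 1 0 (Equiv.injective _) (by rw [one_mul])
      (check_swap i j hij)
    exact ⟨x, phi_eq_of_isAff (b := 0) hx⟩
  have h2 := phi.range.mul_mem h1 ih
  rwa [Prod.mk_mul_mk, one_mul] at h2

theorem phi_surjective : Function.Surjective phi := by
  rintro ⟨A, σ⟩
  have h := phi.range.mul_mem (gl_mem_range A) (perm_mem_range σ)
  rw [Prod.mk_mul_mk, one_mul, mul_one] at h
  exact h

/-! ### the kernel -/

theorem isAff_of_mem_ker {x : MulAction.stabilizer M24 T0} (hx : x ∈ phi.ker) :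
    IsAff ((x : M24) : Equiv.Perm GolayPt) id 1 (tra ((x : M24) : Equiv.Perm GolayPt)) := by
  rw [MonoidHom.mem_ker] at hx
  have h1 : mat ((x : M24) : Equiv.Perm GolayPt) = 1 := by rw [← phi_fst, hx]; rfl
  have h2 : ind ((x : M24) : Equiv.Perm GolayPt) = id := by
    funext j; rw [← phi_snd, hx]; rfl
  have := isAff_stab x
  rwa [h1, h2] at this

theorem mem_ker_of_isAff {x : MulAction.stabilizer M24 T0} {b : Fin 3 → V}
    (hx : IsAff ((x : M24) : Equiv.Perm GolayPt) id 1 b) : x ∈ phi.ker := by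
  rw [MonoidHom.mem_ker]
  exact phi_eq_of_isAff (A := 1) (f := 1) (b := b) hx

theorem eq_of_isAff {x y : MulAction.stabilizer M24 T0} {f : Fin 3 → Fin 3}
    {A : Matrix (Fin 3) (Fin 3) (ZMod 2)} {b : Fin 3 → V}
    (hx : IsAff ((x : M24) : Equiv.Perm GolayPt) f A b)
    (hy : IsAff ((y : M24) : Equiv.Perm GolayPt) f A b) : x = y := by
  apply Subtype.ext
  apply Subtype.ext
  apply Equiv.ext
  intro p
  exact ext_kv (((hx p).1).trans ((hy p).1).symm) (((hx p).2).trans ((hy p).2).symm)

theorem ker_mul_self {x : MulAction.stabilizer M24 T0} (hx : x ∈ phi.ker) : x * x = 1 := by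
  have h := isAff_of_mem_ker hx
  have h2 := isAff_comp h h
  refine eq_of_isAff (f := id) (A := 1) (b := 0) ?_ isAff_id
  have h3 : (fun j => (1 : Matrix (Fin 3) (Fin 3) (ZMod 2)) *ᵥ
      tra ((x : M24) : Equiv.Perm GolayPt) j + tra ((x : M24) : Equiv.Perm GolayPt) (id j)) = 0 := by
    funext j i
    rw [Matrix.one_mulVec]
    exact CharTwo.add_self_eq_zero _
  rw [h3, one_mul] at h2
  exact h2

/-- the translation vectors realised in the group -/
def goodB : AddSubgroup (Fin 3 → V) where
  carrier := {b | ∃ x : MulAction.stabilizer M24 T0, IsAff ((x : M24) : Equiv.Perm GolayPt) id 1 b}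
  zero_mem' := ⟨1, isAff_id⟩
  add_mem' := by
    rintro b b' ⟨x, hx⟩ ⟨y, hy⟩
    refine ⟨x * y, ?_⟩
    have h := isAff_comp hx hy
    have h3 : (fun j => (1 : Matrix (Fin 3) (Fin 3) (ZMod 2)) *ᵥ b' j + b (id j)) = b + b' := by
      funext j
      rw [Matrix.one_mulVec, add_comm]
      rfl
    rw [h3, one_mul] at h
    exact h
  neg_mem' := by
    rintro b ⟨x, hx⟩
    refine ⟨x, ?_⟩
    have : -b = b := by
      funext j i
      exact CharTwo.neg_eq _
    rwa [this]

theorem check_gen0 : ∀ i : Fin 3, ∀ k < 12, isCode (maskW (fun p =>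
    word (basisMask k) (mk id 1 (fun j => if j = 2 then 0 else e i) p))) = true := by
  decide +kernel

theorem check_gen2 : ∀ i : Fin 3, ∀ k < 12, isCode (maskW (fun p =>
    word (basisMask k) (mk id 1 (fun j => if j = 0 then 0 else e i) p))) = true := by
  decide +kernel

theorem gen0_mem (i : Fin 3) : (fun j : Fin 3 => if j = 2 then 0 else e i) ∈ goodB :=
  exists_elt id 1 1 _ Function.injective_id (by rw [one_mul]) (check_gen0 i)

theorem gen2_mem (i : Fin 3) : (fun j : Fin 3 => if j = 0 then 0 else e i) ∈ goodB :=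
  exists_elt id 1 1 _ Function.injective_id (by rw [one_mul]) (check_gen2 i)

theorem smul_mem_goodB (c : ZMod 2) {b : Fin 3 → V} (hb : b ∈ goodB) : c • b ∈ goodB := by
  have hc : c = 0 ∨ c = 1 := by clear hb; revert c; decide
  rcases hc with rfl | rfl
  · rw [zero_smul]; exact goodB.zero_mem
  · rwa [one_smul]

theorem tri_mem (x y : V) :
    (fun j : Fin 3 => if j = 0 then x else if j = 1 then y else x + y) ∈ goodB := by
  have h : (fun j : Fin 3 => if j = 0 then x else if j = 1 then y else x + y) =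
      ∑ i, x i • (fun j : Fin 3 => if j = 2 then (0 : V) else e i) +
      ∑ i, (x + y) i • (fun j : Fin 3 => if j = 0 then (0 : V) else e i) := by
    have h1 : ∀ z : V, ∑ i, z i • e i = z := fun z => by
      conv_rhs => rw [pi_eq_sum_univ' z]
      refine Finset.sum_congr rfl fun i _ => ?_
      congr 1
    funext j
    simp only [Pi.add_apply, Finset.sum_apply, Pi.smul_apply]
    fin_cases j
    · simp [h1]
    · have h2 : x + (x + y) = y := by
        rw [← add_assoc]
        funext i
        simp [CharTwo.add_self_eq_zero]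
      have h3 : ∑ i, x i • e i + ∑ i, (x + y) i • e i = y := by rw [h1, h1, h2]
      simpa using h3.symm
    · have h3 : ∑ i, (x + y) i • e i = x + y := h1 _
      simpa using h3.symm
  rw [h]
  exact goodB.add_mem (goodB.sum_mem fun i _ => smul_mem_goodB _ (gen0_mem i))
    (goodB.sum_mem fun i _ => smul_mem_goodB _ (gen2_mem i))

theorem check_single : ∀ s : V, (∀ k < 12, isCode (maskW (fun p =>
    word (basisMask k) (mk id 1 (fun j => if j = 2 then s else 0) p))) = true) → s = 0 := by
  decide +kernel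

theorem basisMask_mem (k : ℕ) (hk : k < 12) : word (basisMask k) ∈ golayCode := by
  rw [mem_golayCode_iff]
  revert k
  decide +kernel

theorem single_mem {s : V} (h : (fun j : Fin 3 => if j = 2 then s else 0) ∈ goodB) : s = 0 := by
  obtain ⟨x, hx⟩ := h
  apply check_single
  intro k hk
  rw [← mem_golayCode_iff]
  have h1 := (mem_M24_iff_comp_mem ((x : M24) : Equiv.Perm GolayPt)⁻¹).1
    (M24.inv_mem (x : M24).2) _ (basisMask_mem k hk)
  rw [inv_inv] at h1
  convert h1 using 3
  exact ext_kv (((isAff_mk _ _ _ _).1).trans ((hx _).1).symm)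
    (((isAff_mk _ _ _ _).2).trans ((hx _).2).symm)

theorem sum_of_mem {b : Fin 3 → V} (hb : b ∈ goodB) : b 2 = b 0 + b 1 := by
  have h1 := goodB.add_mem hb (tri_mem (b 0) (b 1))
  have h2 : (b + fun j : Fin 3 => if j = 0 then b 0 else if j = 1 then b 1 else b 0 + b 1) =
      (fun j : Fin 3 => if j = 2 then b 2 + (b 0 + b 1) else 0) := by
    funext j
    rw [Pi.add_apply]
    fin_cases j
    · exact funext fun i => CharTwo.add_self_eq_zero _
    · exact funext fun i => CharTwo.add_self_eq_zero _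
    · rfl
  rw [h2] at h1
  have h3 := single_mem h1
  funext i
  exact CharTwo.add_eq_zero.1 (congrFun h3 i)

theorem card_ker : Nat.card phi.ker = 64 := by
  have hV : Nat.card (V × V) = 64 := by
    rw [Nat.card_eq_fintype_card]
    decide +kernel
  rw [← hV]
  refine Nat.card_eq_of_bijective (fun x : phi.ker =>
    (tra (((x : MulAction.stabilizer M24 T0) : M24) : Equiv.Perm GolayPt) 0,
      tra (((x : MulAction.stabilizer M24 T0) : M24) : Equiv.Perm GolayPt) 1)) ⟨?_, ?_⟩
  · rintro ⟨x, hx⟩ ⟨y, hy⟩ h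
    apply Subtype.ext
    have hx' := isAff_of_mem_ker hx
    have hy' := isAff_of_mem_ker hy
    have h0 := congrArg Prod.fst h
    have h1 := congrArg Prod.snd h
    simp only at h0 h1
    have h2 : tra ((x : M24) : Equiv.Perm GolayPt) 2 = tra ((y : M24) : Equiv.Perm GolayPt) 2 := by
      rw [sum_of_mem ⟨x, hx'⟩, sum_of_mem ⟨y, hy'⟩, h0, h1]
    have h3 : tra ((x : M24) : Equiv.Perm GolayPt) = tra ((y : M24) : Equiv.Perm GolayPt) := by
      funext j
      fin_cases j
      · exact h0
      · exact h1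
      · exact h2
    rw [h3] at hx'
    exact eq_of_isAff hx' hy'
  · rintro ⟨u, w⟩
    obtain ⟨x, hx⟩ := tri_mem u w
    refine ⟨⟨x, mem_ker_of_isAff hx⟩, ?_⟩
    simp only [hx.tra_eq]
    rfl

end Cfsg.Agent.GolayTrio.Stab
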