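import Cfsg.Agent.SporadicA.GolayPerm
import Cfsg.Prelude.Def_SporadicCombinatorics

/-!
The standard trio of octads and its coordinates: `GolayPt ≃ Fin 3 × (Fin 3 → ZMod 2)`,
`p ↦ (kk p, vv p)`.  Every element of the stabiliser of the trio acts as
`(k, v) ↦ (f k, A v + b k)`.
-/

set_option autoImplicit false

namespace Cfsg.Agent.GolayTrio.Std

open Cfsg Cfsg.Agent.SporadicA.GolayBase Cfsg.Agent.SporadicA.GolayPerm
open scoped Pointwise Matrix

abbrev V : Type := Fin 3 → ZMod 2

/-- index of a point of given number `8 k + v` -/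
def invL : List ℕ := [0, 3, 2, 4, 1, 12, 10, 7, 6, 19, 17, 13, 18, 14, 16, 11, 5, 20, 22, 15, 8, 9,
  21, 23]

/-- the three octads of the standard trio -/
def OM : Fin 3 → ℕ
  | 0 => 5279
  | 1 => 1009728
  | 2 => 15762208

/-- the three coordinate functions as masks -/
def VM : Fin 3 → ℕ
  | 0 => 10025624
  | 1 => 14920852
  | 2 => 10837890

/-- the octad containing a point -/
def kk (p : GolayPt) : Fin 3 :=
  if (OM 0).testBit (idx p) then 0 else if (OM 1).testBit (idx p) then 1 else 2

/-- the position of a point in its octad -/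
def vv (p : GolayPt) : V := fun i => word (VM i) p

/-- the point with given coordinates -/
def point (k : Fin 3) (v : V) : GolayPt :=
  pt (invL.getD (8 * k.val + (v 0).val + 2 * (v 1).val + 4 * (v 2).val) 0)

theorem kk_point : ∀ k : Fin 3, ∀ v : V, kk (point k v) = k := by decide +kernel

theorem vv_point : ∀ k : Fin 3, ∀ v : V, vv (point k v) = v := by decide +kernel

theorem point_kk_vv : ∀ p : GolayPt, point (kk p) (vv p) = p := by decide +kernel

theorem ext_kv {p q : GolayPt} (h1 : kk p = kk q) (h2 : vv p = vv q) : p = q := by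
  rw [← point_kk_vv p, ← point_kk_vv q, h1, h2]

/-- the octads of the standard trio -/
def OO (j : Fin 3) : Finset GolayPt := fin (OM j)

theorem mem_OO : ∀ j : Fin 3, ∀ p : GolayPt, p ∈ OO j ↔ kk p = j := by decide +kernel

/-- the standard trio -/
def T0 : Finset (Finset GolayPt) := {OO 0, OO 1, OO 2}

theorem mem_T0 (o : Finset GolayPt) : o ∈ T0 ↔ ∃ j, o = OO j := by
  rw [T0, Finset.mem_insert, Finset.mem_insert, Finset.mem_singleton]
  constructor
  · rintro (h | h | h)
    · exact ⟨0, h⟩
    · exact ⟨1, h⟩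
    · exact ⟨2, h⟩
  · rintro ⟨j, rfl⟩
    fin_cases j <;> simp

theorem OO_octad (j : Fin 3) : OO j ∈ octads := by
  rw [OO, fin_mem_octads_iff (by revert j; decide)]
  revert j
  decide +kernel

theorem OO_injective : Function.Injective OO := by
  intro i j h
  have h1 : point i 0 ∈ OO i := (mem_OO _ _).2 (kk_point _ _)
  rw [h, mem_OO, kk_point] at h1
  exact h1

theorem OO_disjoint {i j : Fin 3} (h : i ≠ j) : Disjoint (OO i) (OO j) := by
  rw [Finset.disjoint_left]
  intro p hp hq
  rw [mem_OO] at hp hq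
  exact h (hp.symm.trans hq)

theorem T0_mem : T0 ∈ trios := by
  refine ⟨?_, ?_, ?_⟩
  · rw [T0, Finset.card_eq_three]
    exact ⟨_, _, _, OO_injective.ne (by decide), OO_injective.ne (by decide),
      OO_injective.ne (by decide), rfl⟩
  · intro o ho
    obtain ⟨j, rfl⟩ := (mem_T0 o).1 ho
    exact OO_octad j
  · intro o ho o' ho' hne
    obtain ⟨i, rfl⟩ := (mem_T0 o).1 ho
    obtain ⟨j, rfl⟩ := (mem_T0 o').1 ho'
    exact OO_disjoint (fun h => hne (by rw [h]))

/-! ### functions whose restrictions to two octads are code words -/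

/-- set the values of a word on the octad `m` to zero -/
def R (m : Fin 3) : (GolayPt → ZMod 2) →ₗ[ZMod 2] (GolayPt → ZMod 2) where
  toFun w := fun p => if kk p = m then 0 else w p
  map_add' w w' := by
    funext p
    simp only [Pi.add_apply]
    split_ifs <;> simp
  map_smul' a w := by
    funext p
    simp only [Pi.smul_apply, RingHom.id_apply]
    split_ifs <;> simp

theorem R_apply (m : Fin 3) (w : GolayPt → ZMod 2) (p : GolayPt) :
    R m w p = if kk p = m then 0 else w p := rfl

/-- the words which after erasing any of the three octads become code words -/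
def U : Submodule (ZMod 2) (GolayPt → ZMod 2) := ⨅ m, golayCode.comap (R m)

theorem mem_U (w : GolayPt → ZMod 2) : w ∈ U ↔ ∀ m, R m w ∈ golayCode := by
  rw [U, Submodule.mem_iInf]
  exact Iff.rfl

theorem vv_mem_U (i : Fin 3) : (fun p => vv p i) ∈ U := by
  rw [mem_U]
  intro m
  rw [mem_golayCode_iff]
  revert i m
  decide +kernel

theorem ind_mem_U (j : Fin 3) : (fun p => if kk p = j then (1 : ZMod 2) else 0) ∈ U := by
  rw [mem_U]
  intro m
  rw [mem_golayCode_iff]
  revert j m
  decide +kernel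

theorem aff_mem_U (a : V) (c : Fin 3 → ZMod 2) : (fun p => a ⬝ᵥ vv p + c (kk p)) ∈ U := by
  have h : (fun p => a ⬝ᵥ vv p + c (kk p)) =
      ∑ i, a i • (fun p => vv p i) + ∑ j, c j • (fun p => if kk p = j then (1 : ZMod 2) else 0) := by
    funext p
    simp only [Pi.add_apply, Finset.sum_apply, Pi.smul_apply, smul_eq_mul, dotProduct, mul_ite,
      mul_one, mul_zero, Finset.sum_ite_eq, Finset.mem_univ, if_true]
  rw [h]
  exact U.add_mem (U.sum_mem fun i _ => U.smul_mem _ (vv_mem_U i))
    (U.sum_mem fun j _ => U.smul_mem _ (ind_mem_U j))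

theorem eq_zero_of_vanish (Z : ℕ) (hZ : allR 12 0 (fun i => Nat.beq (enc i) 0 ||
    !(Nat.beq (enc i &&& Z) 0)) = true) {w : GolayPt → ZMod 2} (hw : w ∈ golayCode)
    (h : ∀ p, Z.testBit (idx p) = true → w p = 0) : w = 0 := by
  obtain ⟨i, hi, hi'⟩ := isCode_iff_exists.1 ((mem_golayCode_iff w).1 hw)
  have h1 := allR_zero_spec hZ i hi
  simp only [Bool.or_eq_true, Bool.not_eq_true'] at h1
  rw [← hi'] at h1
  have h2 : maskW w &&& Z = 0 := by
    apply eq_of_testBit_idx (lt_of_le_of_lt Nat.and_le_left (maskW_lt w)) (by norm_num)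
    intro p
    rw [Nat.testBit_and, testBit_maskW, Nat.zero_testBit]
    by_cases hp : Z.testBit (idx p) = true
    · simp [h p hp]
    · simp [hp]
  rcases h1 with h1 | h1
  · rw [← word_maskW w, Nat.eq_of_beq_eq_true h1, word_zero]
  · rw [h2] at h1
    exact absurd h1 (by decide)

theorem vanish_one {w : GolayPt → ZMod 2} (hw : w ∈ golayCode)
    (h : ∀ p, (1009728 ||| 47).testBit (idx p) = true → w p = 0) : w = 0 :=
  eq_zero_of_vanish _ (by decide +kernel) hw h

theorem vanish_two {w : GolayPt → ZMod 2} (hw : w ∈ golayCode)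
    (h : ∀ p, (15762208 ||| 79).testBit (idx p) = true → w p = 0) : w = 0 :=
  eq_zero_of_vanish _ (by decide +kernel) hw h

/-- standard unit vectors -/
def e (i : Fin 3) : V := Pi.single i 1

theorem testBit_one : ∀ p : GolayPt, (1009728 ||| 47).testBit (idx p) = true →
    kk p = 1 ∨ p = point 0 0 ∨ (∃ i, p = point 0 (e i)) ∨ p = point 2 0 := by
  decide +kernel

theorem testBit_two : ∀ p : GolayPt, (15762208 ||| 79).testBit (idx p) = true →
    kk p = 2 ∨ p = point 0 0 ∨ (∃ i, p = point 0 (e i)) ∨ p = point 1 0 := by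
  decide +kernel

theorem eq_zero_of_mem_U {w : GolayPt → ZMod 2} (hw : w ∈ U) (h0 : ∀ j, w (point j 0) = 0)
    (h1 : ∀ i, w (point 0 (e i)) = 0) : w = 0 := by
  rw [mem_U] at hw
  have a1 : R 1 w = 0 := by
    refine vanish_one (hw 1) fun p hp => ?_
    rw [R_apply]
    rcases testBit_one p hp with h | rfl | ⟨i, rfl⟩ | rfl
    · rw [if_pos h]
    · rw [h0, ite_self]
    · rw [h1, ite_self]
    · rw [h0, ite_self]
  have a2 : R 2 w = 0 := by
    refine vanish_two (hw 2) fun p hp => ?_
    rw [R_apply]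
    rcases testBit_two p hp with h | rfl | ⟨i, rfl⟩ | rfl
    · rw [if_pos h]
    · rw [h0, ite_self]
    · rw [h1, ite_self]
    · rw [h0, ite_self]
  funext p
  by_cases h : kk p = 1
  · have := congrFun a2 p
    rwa [R_apply, if_neg (by rw [h]; decide)] at this
  · have := congrFun a1 p
    rwa [R_apply, if_neg h] at this

theorem eq_aff_of_mem_U {w : GolayPt → ZMod 2} (hw : w ∈ U) (p : GolayPt) :
    w p = (fun i => w (point 0 (e i)) + w (point 0 0)) ⬝ᵥ vv p + w (point (kk p) 0) := by
  have h := eq_zero_of_mem_U (w := w - fun p => (fun i => w (point 0 (e i)) + w (point 0 0)) ⬝ᵥ vv p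
    + w (point (kk p) 0)) ?_ ?_ ?_
  · have := congrFun h p
    rw [Pi.sub_apply, Pi.zero_apply, sub_eq_zero] at this
    exact this
  · exact U.sub_mem hw (aff_mem_U (fun i => w (point 0 (e i)) + w (point 0 0))
      (fun j => w (point j 0)))
  · intro j
    simp only [Pi.sub_apply, vv_point, kk_point, dotProduct_zero, zero_add, sub_self]
  · intro i
    simp only [Pi.sub_apply, vv_point, kk_point, e, dotProduct_single_one]
    rw [add_assoc, CharTwo.add_self_eq_zero, add_zero, sub_self]

/-! ### the action of the stabiliser of the trio -/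

/-- matrix attached to a map of the points -/
def mat (g : GolayPt → GolayPt) : Matrix (Fin 3) (Fin 3) (ZMod 2) :=
  Matrix.of fun i j => vv (g (point 0 (e j))) i + vv (g (point 0 0)) i

/-- translation part of a map of the points -/
def tra (g : GolayPt → GolayPt) (j : Fin 3) : V := vv (g (point j 0))

/-- map induced on the three octads -/
def ind (g : GolayPt → GolayPt) (j : Fin 3) : Fin 3 := kk (g (point j 0))

/-- `g` is affine with linear part `A`, translation part `b` and induces `f` on the octads -/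
def IsAff (g : GolayPt → GolayPt) (f : Fin 3 → Fin 3) (A : Matrix (Fin 3) (Fin 3) (ZMod 2))
    (b : Fin 3 → V) : Prop :=
  ∀ p, kk (g p) = f (kk p) ∧ vv (g p) = A *ᵥ vv p + b (kk p)

theorem IsAff.tra_eq {g : GolayPt → GolayPt} {f : Fin 3 → Fin 3}
    {A : Matrix (Fin 3) (Fin 3) (ZMod 2)} {b : Fin 3 → V} (h : IsAff g f A b) : tra g = b := by
  funext j
  have := (h (point j 0)).2
  rw [vv_point, kk_point, Matrix.mulVec_zero, zero_add] at this
  exact this

theorem IsAff.ind_eq {g : GolayPt → GolayPt} {f : Fin 3 → Fin 3}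
    {A : Matrix (Fin 3) (Fin 3) (ZMod 2)} {b : Fin 3 → V} (h : IsAff g f A b) : ind g = f := by
  funext j
  have := (h (point j 0)).1
  rw [kk_point] at this
  exact this

theorem IsAff.mat_eq {g : GolayPt → GolayPt} {f : Fin 3 → Fin 3}
    {A : Matrix (Fin 3) (Fin 3) (ZMod 2)} {b : Fin 3 → V} (h : IsAff g f A b) : mat g = A := by
  ext i j
  have h1 := (h (point 0 (e j))).2
  have h2 := (h (point 0 0)).2
  rw [vv_point, kk_point] at h1 h2
  rw [mat, Matrix.of_apply, h1, h2, Matrix.mulVec_zero, zero_add, Pi.add_apply, add_assoc,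
    CharTwo.add_self_eq_zero, add_zero, e, Matrix.mulVec_single_one]
  rfl

theorem isAff_comp {g g' : GolayPt → GolayPt} {f f' : Fin 3 → Fin 3}
    {A A' : Matrix (Fin 3) (Fin 3) (ZMod 2)} {b b' : Fin 3 → V} (h : IsAff g f A b)
    (h' : IsAff g' f' A' b') :
    IsAff (g ∘ g') (f ∘ f') (A * A') (fun j => A *ᵥ b' j + b (f' j)) := by
  intro p
  obtain ⟨h1, h2⟩ := h (g' p)
  obtain ⟨h3, h4⟩ := h' p
  refine ⟨?_, ?_⟩
  · rw [Function.comp_apply, Function.comp_apply, h1, h3]
  · rw [Function.comp_apply, h2, h3, h4, Matrix.mulVec_add, Matrix.mulVec_mulVec, add_assoc]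

theorem isAff_id : IsAff id id 1 0 := by
  intro p
  refine ⟨rfl, ?_⟩
  rw [Matrix.one_mulVec, Pi.zero_apply, add_zero]
  rfl

/-- every element of the stabiliser of the standard trio is affine -/
theorem isAff_of_mem {g : Equiv.Perm GolayPt} (hg : g ∈ M24) (hT : g • T0 = T0) :
    IsAff g (ind g) (mat g) (tra g) := by
  -- the map induced on the octads
  have hO : ∀ j, ∃ j', g • OO j = OO j' := by
    intro j
    have h1 : OO j ∈ T0 := (mem_T0 _).2 ⟨j, rfl⟩
    have h2 : g • OO j ∈ g • T0 := Finset.smul_mem_smul_finset h1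
    rw [hT] at h2
    exact (mem_T0 _).1 h2
  choose f hf using hO
  have hf' : ∀ p, kk (g p) = f (kk p) := by
    intro p
    have h1 : p ∈ OO (kk p) := (mem_OO _ _).2 rfl
    have h2 : g p ∈ g • OO (kk p) := (mem_smul_iff g _ p).2 h1
    rw [hf, mem_OO] at h2
    exact h2
  have hfi : Function.Injective f := by
    intro i j hij
    have h1 : g • OO i = g • OO j := by rw [hf, hf, hij]
    exact OO_injective (smul_left_cancel g h1)
  -- words of `U` are mapped to words of `U`
  have hU : ∀ w ∈ U, (fun p => w (g p)) ∈ U := by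
    intro w hw
    rw [mem_U] at hw ⊢
    intro m
    have h1 := (mem_M24_iff_comp_mem g⁻¹).1 (M24.inv_mem hg) _ (hw (f m))
    convert h1 using 1
    funext p
    rw [R_apply]
    show _ = if kk ((g⁻¹)⁻¹ p) = f m then 0 else w ((g⁻¹)⁻¹ p)
    rw [inv_inv, hf']
    simp only [hfi.eq_iff]
  intro p
  have hind : ind g = f := by
    funext j
    rw [ind, hf', kk_point]
  refine ⟨by rw [hind, hf'], ?_⟩
  funext i
  have h1 := eq_aff_of_mem_U (hU _ (vv_mem_U i)) p
  rw [h1]
  rfl

end Cfsg.Agent.GolayTrio.Std
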