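import Cfsg.Agent.S0367
import Cfsg.Agent.S1556
import Cfsg.Agent.SporadicA.GolayPerm
import Cfsg.Prelude.Def_SporadicCombinatorics

/-!
`M24` is transitive on ordered trios.
-/

set_option autoImplicit false

namespace Cfsg.Agent.GolayTrio.Trans

open Cfsg Cfsg.Agent.SporadicA.GolayPerm
open scoped Pointwise

theorem card_pt : Fintype.card GolayPt = 24 := by decide

theorem smul_disjoint (g : Equiv.Perm GolayPt) {a b : Finset GolayPt} (h : Disjoint a b) :
    Disjoint (g • a) (g • b) := by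
  rw [Finset.disjoint_left] at h ⊢
  intro p hp hq
  rw [← Finset.inv_smul_mem_iff] at hp hq
  exact h hp hq

/-- the third octad of a trio is the complement of the union of the two others -/
theorem third_eq {a b c : Finset GolayPt} (ha : a ∈ octads) (hb : b ∈ octads) (hc : c ∈ octads)
    (hab : Disjoint a b) (hac : Disjoint a c) (hbc : Disjoint b c) : c = (a ∪ b)ᶜ := by
  apply Finset.eq_of_subset_of_card_le
  · intro p hp
    rw [Finset.mem_compl, Finset.mem_union]
    rintro (h | h)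
    · exact Finset.disjoint_left.1 hac h hp
    · exact Finset.disjoint_left.1 hbc h hp
  · rw [Finset.card_compl, Finset.card_union_of_disjoint hab, ha.2, hb.2, hc.2, card_pt]

/-- `M24` is transitive on ordered trios of octads. -/
theorem exists_ordered {a b c a' b' c' : Finset GolayPt} (ha : a ∈ octads) (hb : b ∈ octads)
    (hc : c ∈ octads) (hab : Disjoint a b) (hac : Disjoint a c) (hbc : Disjoint b c)
    (ha' : a' ∈ octads) (hb' : b' ∈ octads) (hc' : c' ∈ octads) (hab' : Disjoint a' b')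
    (hac' : Disjoint a' c') (hbc' : Disjoint b' c') :
    ∃ g : Equiv.Perm GolayPt, g ∈ M24 ∧ g • a = a' ∧ g • b = b' ∧ g • c = c' := by
  obtain ⟨h, hh⟩ := Cfsg.Agent.S0367.result a a' ha ha'
  have hh' : (h : Equiv.Perm GolayPt) • a = a' := hh
  have hd : Disjoint a' ((h : Equiv.Perm GolayPt) • b) := by
    rw [← hh']
    exact smul_disjoint _ hab
  obtain ⟨k, hk, hk1, hk2⟩ := Cfsg.Agent.S1556.result a' ((h : Equiv.Perm GolayPt) • b) b' ha'
    ((smul_mem_octads h.2).2 hb) hb' (by
      rw [Finset.disjoint_iff_inter_eq_empty.1 hd, Finset.disjoint_iff_inter_eq_empty.1 hab'])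
  have e1 : (k * (h : Equiv.Perm GolayPt)) • a = a' := by rw [mul_smul, hh', hk1]
  have e2 : (k * (h : Equiv.Perm GolayPt)) • b = b' := by rw [mul_smul, hk2]
  refine ⟨k * h, M24.mul_mem hk h.2, e1, e2, ?_⟩
  have hm : k * (h : Equiv.Perm GolayPt) ∈ M24 := M24.mul_mem hk h.2
  rw [third_eq ha' hb' hc' hab' hac' hbc']
  refine third_eq ha' hb' ((smul_mem_octads hm).2 hc) hab' ?_ ?_
  · rw [← e1]; exact smul_disjoint _ hac
  · rw [← e2]; exact smul_disjoint _ hbc

/-- a trio written as an ordered triple -/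
theorem exists_triple {T : Finset (Finset GolayPt)} (hT : T ∈ trios) :
    ∃ a b c : Finset GolayPt, T = {a, b, c} ∧ a ≠ b ∧ a ≠ c ∧ b ≠ c ∧ a ∈ octads ∧ b ∈ octads ∧
      c ∈ octads ∧ Disjoint a b ∧ Disjoint a c ∧ Disjoint b c := by
  obtain ⟨hc, ho, hd⟩ := hT
  obtain ⟨a, b, c, hab, hac, hbc, rfl⟩ := Finset.card_eq_three.1 hc
  exact ⟨a, b, c, rfl, hab, hac, hbc, ho a (by simp), ho b (by simp), ho c (by simp),
    hd a (by simp) b (by simp) hab, hd a (by simp) c (by simp) hac, hd b (by simp) c (by simp) hbc⟩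

/-- `M24` is transitive on trios. -/
theorem exists_smul_trio {T T' : Finset (Finset GolayPt)} (hT : T ∈ trios) (hT' : T' ∈ trios) :
    ∃ g : M24, g • T = T' := by
  obtain ⟨a, b, c, rfl, -, -, -, ha, hb, hc, hab, hac, hbc⟩ := exists_triple hT
  obtain ⟨a', b', c', rfl, -, -, -, ha', hb', hc', hab', hac', hbc'⟩ := exists_triple hT'
  obtain ⟨g, hg, h1, h2, h3⟩ := exists_ordered ha hb hc hab hac hbc ha' hb' hc' hab' hac' hbc'
  refine ⟨⟨g, hg⟩, ?_⟩
  show g • ({a, b, c} : Finset (Finset GolayPt)) = _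
  rw [Finset.smul_finset_insert, Finset.smul_finset_insert, Finset.smul_finset_singleton, h1, h2, h3]

end Cfsg.Agent.GolayTrio.Trans
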